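import Mathlib.AlgebraicGeometry.AffineSpace
import Mathlib.AlgebraicGeometry.Morphisms.ClosedImmersion

/-!
# Pullback of functions between prescribed opens
-/

set_option autoImplicit false
universe u

open CategoryTheory Limits AlgebraicGeometry Opposite TopologicalSpace

noncomputable section

namespace GrothLib.LinTot3

variable {X Y Z : Scheme.{u}}

/-- Pullback of a function on `U` to `V`. -/
abbrev ap (f : X ⟶ Y) {U : Y.Opens} {V : X.Opens} (h : V ≤ f ⁻¹ᵁ U) (a : Γ(Y, U)) : Γ(X, V) :=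
  f.appLE U V h a

/-- Restriction. -/
abbrev rr {U V : X.Opens} (h : V ≤ U) (a : Γ(X, U)) : Γ(X, V) := X.presheaf.map (homOfLE h).op a

theorem rr_rr {U V W : X.Opens} (h : V ≤ U) (h' : W ≤ V) (a : Γ(X, U)) :
    rr h' (rr h a) = rr (h'.trans h) a := by
  simp only [rr]; rw [← ConcreteCategory.comp_apply, ← Functor.map_comp]; rfl

theorem rr_self {U : X.Opens} (h : U ≤ U) (a : Γ(X, U)) : rr h a = a := by
  show X.presheaf.map (𝟙 (op U)) a = a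
  rw [CategoryTheory.Functor.map_id]; rfl

theorem rr_ap (f : X ⟶ Y) {U : Y.Opens} {V V' : X.Opens} (h : V ≤ f ⁻¹ᵁ U) (h' : V' ≤ V) (a : Γ(Y, U)) :
    rr h' (ap f h a) = ap f (h'.trans h) a :=
  ConcreteCategory.congr_hom (f.appLE_map h (homOfLE h').op) a

theorem ap_rr (f : X ⟶ Y) {U U' : Y.Opens} {V : X.Opens} (h : V ≤ f ⁻¹ᵁ U') (h' : U' ≤ U) (a : Γ(Y, U)) :
    ap f h (rr h' a) = ap f (h.trans (f.preimage_mono h')) a :=
  ConcreteCategory.congr_hom (f.map_appLE h (homOfLE h').op) a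

theorem ap_comp (f : X ⟶ Y) (g : Y ⟶ Z) {U : Z.Opens} {V : Y.Opens} {W : X.Opens}
    (h : V ≤ g ⁻¹ᵁ U) (h' : W ≤ f ⁻¹ᵁ V) (a : Γ(Z, U)) :
    ap f h' (ap g h a) = ap (f ≫ g) (h'.trans (f.preimage_mono h)) a :=
  ConcreteCategory.congr_hom (Scheme.Hom.appLE_comp_appLE f g U V W h h') a

theorem ap_congr {f g : X ⟶ Y} (e : f = g) {U : Y.Opens} {V : X.Opens} (h : V ≤ f ⁻¹ᵁ U)
    (h' : V ≤ g ⁻¹ᵁ U) (a : Γ(Y, U)) : ap f h a = ap g h' a := by subst e; rfl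

theorem appTop_eq (f : X ⟶ Y) (a : Γ(Y, ⊤)) : f.appTop a = ap f (V := ⊤) le_top a := by
  show f.app ⊤ a = _
  rw [Scheme.Hom.app_eq_appLE]
  rfl

theorem app_eq (f : X ⟶ Y) {U : Y.Opens} (a : Γ(Y, U)) : f.app U a = ap f le_rfl a := by
  rw [Scheme.Hom.app_eq_appLE]

theorem rr_appTop (f : X ⟶ Y) {V : X.Opens} (h : V ≤ ⊤) (a : Γ(Y, ⊤)) :
    rr h (f.appTop a) = ap f le_top a := by
  rw [appTop_eq, rr_ap]

theorem ap_appTop (f : X ⟶ Y) (g : Y ⟶ Z) {W : X.Opens} (h : W ≤ f ⁻¹ᵁ ⊤) (a : Γ(Z, ⊤)) :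
    ap f h (g.appTop a) = ap (f ≫ g) le_top a := by
  rw [appTop_eq, ap_comp]

theorem ap_self {U V : X.Opens} (h : V ≤ U) (a : Γ(X, U)) :
    ap (𝟙 X) (show V ≤ (𝟙 X) ⁻¹ᵁ U from h) a = rr h a := by
  show (𝟙 X : X ⟶ X).appLE U V _ a = _
  simp only [Scheme.Hom.appLE, Scheme.Hom.id_app]
  rfl

end GrothLib.LinTot3
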