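import Groth.Agent.Lib.LinTot3.Ap

/-!
# The closed subscheme of affine space cut out by the ratios of a family of generating sections
-/

set_option autoImplicit false
set_option linter.style.haveILetI false
set_option backward.isDefEq.respectTransparency false
universe u

open CategoryTheory Limits AlgebraicGeometry Opposite TopologicalSpace
open scoped AlgebraicGeometry

noncomputable section

namespace GrothLib.LinTot3

open AffineSpace

variable {Y : Scheme.{u}}

/-- Ratios `h l m` on `U l` of sections with affine non-vanishing loci `U`. -/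
structure Ratios (Y : Scheme.{u}) where
  /-- index type -/
  ι : Type u
  fin : Finite ι
  /-- the loci -/
  U : ι → Y.Opens
  affine : ∀ l, IsAffineOpen (U l)
  cover : ⨆ l, U l = ⊤
  /-- the ratio on `U l` -/
  h : ∀ l, ι → Γ(Y, U l)
  self : ∀ l, h l l = 1
  coc : ∀ l m s (W : Y.Opens) (hl : W ≤ U l) (hm : W ≤ U m), rr hl (h l s) = rr hl (h l m) * rr hm (h m s)
  basic : ∀ l m, Y.basicOpen (h l m) ≤ U m

namespace Ratios

variable (D : Ratios Y)

/-- The one-variable polynomial ring over `Γ(U l)`. -/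
abbrev T (l : D.ι) : CommRingCat.{u} := CommRingCat.of (Polynomial Γ(Y, D.U l))

/-- The projection of the line over `U l`. -/
def b (l : D.ι) : Spec (D.T l) ⟶ Y :=
  Spec.map (CommRingCat.ofHom Polynomial.C) ≫ (D.affine l).fromSpec

/-- The coordinate on the line. -/
def var (l : D.ι) : Γ(Spec (D.T l), ⊤) := (Scheme.ΓSpecIso (D.T l)).inv Polynomial.X

/-- The line over `U l` in affine space. -/
def line (l : D.ι) : Spec (D.T l) ⟶ 𝔸(D.ι; Y) :=
  homOfVector (D.b l) fun s => (Scheme.ΓSpecIso (D.T l)).inv (Polynomial.C (D.h l s) * Polynomial.X)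

theorem le_b (l : D.ι) : (⊤ : (Spec (D.T l)).Opens) ≤ D.b l ⁻¹ᵁ D.U l := fun x _ => by
  have : (D.affine l).fromSpec (Spec.map (CommRingCat.ofHom Polynomial.C) x) ∈ Set.range (D.affine l).fromSpec :=
    ⟨_, rfl⟩
  rw [(D.affine l).range_fromSpec] at this
  exact this

theorem ap_b (l : D.ι) (c : Γ(Y, D.U l)) :
    ap (D.b l) (D.le_b l) c = (Scheme.ΓSpecIso (D.T l)).inv (Polynomial.C c) := by
  have h0 : (⊤ : (Spec Γ(Y, D.U l)).Opens) ≤ (D.affine l).fromSpec ⁻¹ᵁ D.U l :=
    (D.affine l).fromSpec_preimage_self.ge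
  have h1 : ap (D.affine l).fromSpec h0 c = (Scheme.ΓSpecIso Γ(Y, D.U l)).inv c := by
    show (D.affine l).fromSpec.appLE _ _ _ c = _
    rw [Scheme.Hom.appLE, (D.affine l).fromSpec_app_self]
    simp only [Category.assoc, ← Functor.map_comp]
    rw [ConcreteCategory.comp_apply]
    exact rr_self le_rfl _
  rw [show ap (D.b l) (D.le_b l) c = ap (Spec.map (CommRingCat.ofHom (Polynomial.C))) le_top
    (ap (D.affine l).fromSpec h0 c) from (ap_comp _ _ h0 _ c).symm, h1, ← appTop_eq]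
  exact (ConcreteCategory.congr_hom (Scheme.ΓSpecIso_inv_naturality
    (CommRingCat.ofHom (Polynomial.C : Γ(Y, D.U l) →+* _))) c).symm

theorem line_over (l : D.ι) : D.line l ≫ 𝔸(D.ι; Y) ↘ Y = D.b l := homOfVector_over _ _

theorem line_coord (l s : D.ι) :
    (D.line l).appTop (coord Y s) = ap (D.b l) (D.le_b l) (D.h l s) * D.var l := by
  rw [line, homOfVector_appTop_coord, ap_b, map_mul]
  rfl

theorem isAffineHom_ι (l : D.ι) : IsAffineHom (D.U l).ι := by
  refine isAffineHom_of_forall_exists_isAffineOpen _ fun x => ?_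
  obtain ⟨m, hm⟩ := Opens.mem_iSup.1 (D.cover.ge (Opens.mem_top x) : x ∈ ⨆ m, D.U m)
  refine ⟨D.U m, hm, D.affine m, ?_⟩
  have e : Y.basicOpen (D.h m l) = D.U m ⊓ D.U l := by
    refine le_antisymm (le_inf (Y.basicOpen_le _) (D.basic m l)) fun y hy => ?_
    have hu : IsUnit (rr (inf_le_left : D.U m ⊓ D.U l ≤ D.U m) (D.h m l)) :=
      IsUnit.of_mul_eq_one _
        ((D.coc m l m _ inf_le_left inf_le_right).symm.trans (by rw [D.self, rr, map_one]))
    have h2 := Scheme.basicOpen_res Y (D.h m l) (homOfLE (inf_le_left : D.U m ⊓ D.U l ≤ D.U m)).op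
    rw [Scheme.basicOpen_of_isUnit _ hu] at h2
    exact (h2 ▸ hy : y ∈ (D.U m ⊓ D.U l) ⊓ Y.basicOpen (D.h m l)).2
  refine ((D.U l).ι.isAffineOpen_iff_of_isOpenImmersion).1 ?_
  rw [Scheme.Hom.image_preimage_eq_opensRange_inf, Scheme.Opens.opensRange_ι, inf_comm, ← e]
  exact (D.affine m).basicOpen _

theorem exists_lineCompl :
    ∃ (Z : Scheme.{u}) (z : Z ⟶ 𝔸(D.ι; Y)), IsClosedImmersion z ∧
      (∀ (l s : D.ι) (V : Z.Opens) (hV : V ≤ (z ≫ 𝔸(D.ι; Y) ↘ Y) ⁻¹ᵁ D.U l),
        ap z le_top (coord Y s) =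
          ap (z ≫ 𝔸(D.ι; Y) ↘ Y) hV (D.h l s) * ap z (V := V) le_top (coord Y l)) ∧
      ∀ l, ∃ e : Spec (D.T l) ⟶ Z, e ≫ z = D.line l := by
  haveI := D.fin
  let p := 𝔸(D.ι; Y) ↘ Y
  let J : (∐ fun l => Spec (D.T l)) ⟶ 𝔸(D.ι; Y) := Sigma.desc D.line
  haveI : ∀ l, IsAffineHom (D.line l) := fun l => by
    haveI := D.isAffineHom_ι l
    haveI : IsAffineHom (D.b l) := by
      rw [Ratios.b, IsAffineOpen.fromSpec]
      infer_instance
    haveI : IsAffineHom (D.line l ≫ p) := by rw [D.line_over l]; infer_instance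
    exact IsAffineHom.of_comp _ p
  haveI : QuasiCompact J := by
    refine ⟨fun O hO hOc => ?_⟩
    have : J ⁻¹' O = ⋃ l, (Sigma.ι (fun l => Spec (D.T l)) l) '' (D.line l ⁻¹' O) := by
      ext y
      obtain ⟨⟨l, w⟩, rfl⟩ := (sigmaMk fun l => Spec (D.T l)).surjective y
      have hJ : J (Sigma.ι (fun l => Spec (D.T l)) l w) = D.line l w := by
        rw [← Scheme.Hom.comp_apply, Sigma.ι_desc]
      rw [sigmaMk_mk]
      constructor
      · intro hy
        exact Set.mem_iUnion.2 ⟨l, w, by rwa [Set.mem_preimage, ← hJ], rfl⟩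
      · intro hy
        obtain ⟨m, w', hw', he⟩ := Set.mem_iUnion.1 hy
        have hJ' : J (Sigma.ι (fun l => Spec (D.T l)) m w') = D.line m w' := by
          rw [← Scheme.Hom.comp_apply, Sigma.ι_desc]
        rw [Set.mem_preimage, ← he, hJ']
        exact hw'
    rw [this]
    exact isCompact_iUnion fun l =>
      ((QuasiCompact.isCompact_preimage (f := D.line l) O hO hOc)).image
        (Sigma.ι (fun l => Spec (D.T l)) l).continuous
  refine ⟨J.image, J.imageι, inferInstance, fun l s V hV => ?_, fun l =>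
    ⟨Sigma.ι (fun l => Spec (D.T l)) l ≫ J.toImage, by
      rw [Category.assoc, Scheme.Hom.toImage_imageι]; exact Sigma.ι_desc _ _⟩⟩
  have hO : IsAffineOpen (p ⁻¹ᵁ D.U l) := (D.affine l).preimage p
  let a : Γ(𝔸(D.ι; Y), p ⁻¹ᵁ D.U l) :=
    rr le_top (coord Y s) - ap p le_rfl (D.h l s) * rr le_top (coord Y l)
  have hJa : J.app _ a = 0 := by
    refine (∐ fun l => Spec (D.T l)).sheaf.eq_of_locally_eq'
      (fun m => (Sigma.ι (fun l => Spec (D.T l)) m).opensRange ⊓ J ⁻¹ᵁ (p ⁻¹ᵁ D.U l))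
      _ (fun m => homOfLE inf_le_right) (fun y hy => ?_) _ _ fun m => ?_
    · obtain ⟨⟨m, w⟩, rfl⟩ := (sigmaMk fun l => Spec (D.T l)).surjective y
      exact Opens.mem_iSup.2 ⟨m, ⟨w, (sigmaMk_mk (fun l => Spec (D.T l)) m w).symm⟩, hy⟩
    rw [map_zero]
    let i := Sigma.ι (fun l => Spec (D.T l)) m
    let Q : (Spec (D.T m)).Opens := i ⁻¹ᵁ (J ⁻¹ᵁ (p ⁻¹ᵁ D.U l))
    have hi : i ≫ J = D.line m := Sigma.ι_desc _ _
    have hQ : Q ≤ D.line m ⁻¹ᵁ (p ⁻¹ᵁ D.U l) := by
      intro w hw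
      show D.line m w ∈ p ⁻¹ᵁ D.U l
      rw [← hi, Scheme.Hom.comp_apply]
      exact hw
    have hQl : Q ≤ D.b m ⁻¹ᵁ D.U l := by
      intro w hw
      show D.b m w ∈ D.U l
      rw [← D.line_over m, Scheme.Hom.comp_apply]
      exact hQ hw
    have hQm : Q ≤ D.b m ⁻¹ᵁ D.U m := le_top.trans (D.le_b m)
    -- the image of `a` on the piece
    have hzero : ap (D.line m) hQ a = 0 := by
      show (D.line m).appLE _ Q hQ a = 0
      rw [map_sub, map_mul]
      show ap _ hQ (rr le_top _) - ap _ hQ (ap p le_rfl _) * ap _ hQ (rr le_top _) = 0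
      rw [ap_rr, ap_rr, ap_comp, ap_congr (D.line_over m) _ hQl]
      have hc : ∀ t, ap (D.line m) (V := Q) le_top (coord Y t) =
          ap (D.b m) hQm (D.h m t) * rr le_top (D.var m) := fun t => by
        rw [← rr_appTop (D.line m) le_top, D.line_coord m t]
        simp only [rr, map_mul]
        rw [show (Spec (D.T m)).presheaf.map (homOfLE (le_top : Q ≤ ⊤)).op (ap (D.b m) (D.le_b m) (D.h m t)) =
          ap (D.b m) hQm (D.h m t) from rr_ap _ _ _ _]
      rw [hc s, hc l]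
      have key := congrArg (ap (D.b m) (U := D.U m ⊓ D.U l) (V := Q) (fun w hw => ⟨hQm hw, hQl hw⟩))
        (D.coc m l s (D.U m ⊓ D.U l) inf_le_left inf_le_right)
      simp only [ap] at key
      rw [map_mul] at key
      change ap _ _ (rr _ _) = ap _ _ (rr _ _) * ap _ _ (rr _ _) at key
      rw [ap_rr, ap_rr, ap_rr] at key
      rw [key]
      ring
    -- transport to the open piece of the coproduct
    have he : i ''ᵁ Q = i.opensRange ⊓ J ⁻¹ᵁ (p ⁻¹ᵁ D.U l) := Scheme.Hom.image_preimage_eq_opensRange_inf _ _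
    have hinj : ∀ t : Γ(∐ fun l => Spec (D.T l), i.opensRange ⊓ J ⁻¹ᵁ (p ⁻¹ᵁ D.U l)),
        ap i (U := i.opensRange ⊓ J ⁻¹ᵁ (p ⁻¹ᵁ D.U l)) (V := Q) (fun w hw => ⟨⟨w, rfl⟩, hw⟩) t = 0 → t = 0 := by
      intro t ht
      have e1 : t = rr he.ge (rr he.le t) := by rw [rr_rr, rr_self]
      rw [e1]
      have e2 : rr he.le t = 0 := by
        apply ((i.appIso Q).commRingCatIsoToRingEquiv).injective
        rw [map_zero]
        refine Eq.trans ?_ ht
        show (i.appIso Q).hom _ = _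
        rw [Scheme.Hom.appIso_hom']
        exact ap_rr i _ he.le t
      rw [e2, rr, map_zero]
    refine hinj _ ?_
    show ap i _ (rr inf_le_right (J.app _ a)) = 0
    rw [ap_rr, app_eq, ap_comp]
    exact (ap_congr hi _ hQ a).trans hzero
  have hker : J.imageι.app _ a = 0 := by
    have h1 : a ∈ RingHom.ker (J.imageι.app (p ⁻¹ᵁ D.U l)).hom := by
      rw [Scheme.IdealSheafData.ker_subschemeι_app J.ker ⟨_, hO⟩, Scheme.Hom.ker_apply J ⟨_, hO⟩]
      exact hJa
    exact h1
  have hV' : V ≤ J.imageι ⁻¹ᵁ (p ⁻¹ᵁ D.U l) := hV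
  have := congrArg (rr hV') hker
  simp only [rr, map_zero] at this
  rw [show (J.image.presheaf.map (homOfLE hV').op) (J.imageι.app _ a) = ap J.imageι hV' a from
    (congrArg (rr hV') (app_eq _ a)).trans (rr_ap _ _ _ _)] at this
  simp only [ap, a, map_sub, map_mul] at this
  rw [sub_eq_zero] at this
  change ap _ _ (rr _ _) = ap _ _ (ap p _ _) * ap _ _ (rr _ _) at this
  rw [ap_rr, ap_rr, ap_comp] at this
  exact this

end Ratios

end GrothLib.LinTot3
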