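import Groth.Agent.Lib.LinTot3.Base

/-!
# The pulled back total space, its coordinates and its fibres
-/

set_option autoImplicit false
set_option linter.style.haveILetI false
set_option backward.isDefEq.respectTransparency false
universe u

open CategoryTheory Limits AlgebraicGeometry Opposite TopologicalSpace
open scoped AlgebraicGeometry

noncomputable section

namespace GrothLib.LinTot3

open AffineSpace

variable {X Y : Scheme.{u}}

/-- The properties of the pulled back total space `(V, π, q)`. -/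
structure Total (D : Ratios Y) (φ : X ⟶ Y) where
  /-- total space -/
  V : Scheme.{u}
  /-- projection -/
  π : V ⟶ X
  /-- map to the total space over `Y` -/
  Z : Scheme.{u}
  q : V ⟶ Z
  z : Z ⟶ 𝔸(D.ι; Y)
  mono : Mono z
  affine : IsAffineHom π
  comm : q ≫ z ≫ 𝔸(D.ι; Y) ↘ Y = π ≫ φ
  hom_ext : ∀ {W : Scheme.{u}} (g g' : W ⟶ V), g ≫ π = g' ≫ π → g ≫ q = g' ≫ q → g = g'
  exists_lift : ∀ {W : Scheme.{u}} (a : W ⟶ X) (b : W ⟶ Z), b ≫ z ≫ 𝔸(D.ι; Y) ↘ Y = a ≫ φ →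
    ∃ g : W ⟶ V, g ≫ π = a ∧ g ≫ q = b
  rel : ∀ (l s : D.ι) (U : Z.Opens) (hU : U ≤ (z ≫ 𝔸(D.ι; Y) ↘ Y) ⁻¹ᵁ D.U l),
    ap z le_top (coord Y s) =
      ap (z ≫ 𝔸(D.ι; Y) ↘ Y) hU (D.h l s) * ap z (V := U) le_top (coord Y l)
  line : ∀ l, ∃ e : Spec (D.T l) ⟶ Z, e ≫ z = D.line l

theorem nonempty_total (D : Ratios Y) (φ : X ⟶ Y) : Nonempty (Total D φ) := by
  obtain ⟨Z, z, hz, hrel, hline⟩ := D.exists_lineCompl
  haveI := hz
  refine ⟨{
    V := pullback φ (z ≫ 𝔸(D.ι; Y) ↘ Y)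
    π := pullback.fst _ _
    Z := Z
    q := pullback.snd _ _
    z := z
    mono := inferInstance
    affine := MorphismProperty.pullback_fst _ _ inferInstance
    comm := pullback.condition.symm
    hom_ext := fun g g' h₁ h₂ => pullback.hom_ext h₁ h₂
    exists_lift := fun a b h => ⟨pullback.lift a b h.symm, pullback.lift_fst _ _ _, pullback.lift_snd _ _ _⟩
    rel := hrel
    line := hline }⟩

namespace Total

variable {D : Ratios Y} {φ : X ⟶ Y} (P : Total D φ)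

/-- The `l`-th coordinate as a function on the total space. -/
def f (l : D.ι) : Γ(P.V, ⊤) := (P.q ≫ P.z).appTop (coord Y l)

/-- The open of `X` over the `l`-th locus. -/
abbrev O (_P : Total D φ) (l : D.ι) : X.Opens := φ ⁻¹ᵁ D.U l

/-- The ratio on `X`. -/
abbrev g (_P : Total D φ) (l m : D.ι) : Γ(X, φ ⁻¹ᵁ D.U l) := φ.app (D.U l) (D.h l m)

theorem le_f {l : D.ι} {V' : P.V.Opens} (hV : V' ≤ P.π ⁻¹ᵁ P.O l) :
    V' ≤ P.q ⁻¹ᵁ ((P.z ≫ 𝔸(D.ι; Y) ↘ Y) ⁻¹ᵁ D.U l) := by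
  intro v hv
  show (P.q ≫ P.z ≫ 𝔸(D.ι; Y) ↘ Y) v ∈ D.U l
  rw [P.comm]
  exact hV hv

theorem f_rel (l m : D.ι) {V' : P.V.Opens} (hV : V' ≤ P.π ⁻¹ᵁ P.O l) :
    rr le_top (P.f m) = ap P.π hV (P.g l m) * rr le_top (P.f l) := by
  simp only [f, rr_appTop]
  have h := congrArg (ap P.q (P.le_f hV)) (P.rel l m _ le_rfl)
  simp only [ap] at h
  rw [map_mul] at h
  change ap P.q (P.le_f hV) (ap P.z le_top _) = ap P.q (P.le_f hV) (ap (P.z ≫ _) le_rfl _) *
    ap P.q (P.le_f hV) (ap P.z le_top _) at h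
  rw [ap_comp, ap_comp, ap_comp] at h
  rw [h, ap_congr P.comm _ (show V' ≤ (P.π ≫ φ) ⁻¹ᵁ D.U l from hV)]
  simp only [g, app_eq]
  rw [ap_comp]

theorem coc_g (l m s : D.ι) {W : X.Opens} (hl : W ≤ P.O l) (hm : W ≤ P.O m) :
    rr hl (P.g l s) = rr hl (P.g l m) * rr hm (P.g m s) := by
  have h := congrArg (ap φ (U := D.U l ⊓ D.U m) (V := W) (fun w hw => ⟨hl hw, hm hw⟩))
    (D.coc l m s (D.U l ⊓ D.U m) inf_le_left inf_le_right)
  simp only [ap] at h
  rw [map_mul] at h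
  change ap _ _ (rr _ _) = ap _ _ (rr _ _) * ap _ _ (rr _ _) at h
  rw [ap_rr, ap_rr, ap_rr] at h
  simp only [g, app_eq]
  rw [rr_ap, rr_ap, rr_ap]
  exact h

theorem g_self (l : D.ι) : P.g l l = 1 := by simp only [g, D.self, map_one]

theorem isUnit_g (l m : D.ι) :
    IsUnit (rr (inf_le_left : P.O l ⊓ P.O m ≤ P.O l) (P.g l m)) :=
  IsUnit.of_mul_eq_one (rr (inf_le_right : P.O l ⊓ P.O m ≤ P.O m) (P.g m l))
    ((P.coc_g l m l inf_le_left inf_le_right).symm.trans (by rw [P.g_self, rr, map_one]))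

/-- The test map of the line over an affine open. -/
theorem exists_test (l : D.ι) {W : X.Opens} (hW : IsAffineOpen W) (hWl : W ≤ P.O l) :
    ∃ e : Spec (CommRingCat.of (Polynomial Γ(X, W))) ⟶ P.V,
      e ≫ P.π = Spec.map (CommRingCat.ofHom Polynomial.C) ≫ hW.fromSpec ∧
      ∀ s, e.appTop (P.f s) = (Scheme.ΓSpecIso (CommRingCat.of (Polynomial Γ(X, W)))).inv
        (Polynomial.C (rr hWl (P.g l s)) * Polynomial.X) := by
  obtain ⟨el, hel⟩ := P.line l
  let χ : Γ(Y, D.U l) ⟶ Γ(X, W) := φ.appLE (D.U l) W hWl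
  let ψ : D.T l ⟶ CommRingCat.of (Polynomial Γ(X, W)) := CommRingCat.ofHom (Polynomial.mapRingHom χ.hom)
  have hover : (Spec.map ψ ≫ el) ≫ P.z ≫ 𝔸(D.ι; Y) ↘ Y =
      (Spec.map (CommRingCat.ofHom Polynomial.C) ≫ hW.fromSpec) ≫ φ := by
    rw [Category.assoc, reassoc_of% hel, D.line_over l, Ratios.b, Category.assoc,
      ← IsAffineOpen.SpecMap_appLE_fromSpec φ (D.affine l) hW hWl, ← Spec.map_comp_assoc,
      ← Spec.map_comp_assoc]
    congr 2
    exact CommRingCat.hom_ext (RingHom.ext fun c => Polynomial.map_C χ.hom)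
  obtain ⟨e, he₁, he₂⟩ := P.exists_lift _ _ hover
  refine ⟨e, he₁, fun s => ?_⟩
  have h₀ : e ≫ P.q ≫ P.z = Spec.map ψ ≫ D.line l := by
    rw [← Category.assoc, he₂, Category.assoc, hel]
  show e.appTop ((P.q ≫ P.z).appTop (coord Y s)) = _
  rw [← CommRingCat.comp_apply, ← Scheme.Hom.comp_appTop, h₀, Scheme.Hom.comp_appTop, CommRingCat.comp_apply,
    Ratios.line, homOfVector_appTop_coord]
  refine (ConcreteCategory.congr_hom (Scheme.ΓSpecIso_inv_naturality ψ) _).symm.trans ?_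
  refine congrArg (Scheme.ΓSpecIso _).inv ?_
  show Polynomial.map χ.hom (Polynomial.C (D.h l s) * Polynomial.X) = _
  rw [Polynomial.map_mul, Polynomial.map_C, Polynomial.map_X]
  simp only [g, app_eq]
  rw [rr_ap]

theorem topIso_inv_eq {A : Scheme.{u}} (U : A.Opens) (a : Γ(A, U)) :
    U.topIso.inv a = ap U.ι (V := ⊤) (fun w _ => w.2) a := by
  show _ = U.ι.appLE U ⊤ _ a
  simp only [Scheme.Hom.appLE, Scheme.Opens.topIso, Scheme.Opens.ι_app]
  change A.presheaf.map _ a = (A.presheaf.map _ ≫ A.presheaf.map _) a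
  refine Eq.trans ?_ (congrArg (fun t => (CommRingCat.Hom.hom t) a) (A.presheaf.map_comp _ _))
  exact congrArg (fun i => A.presheaf.map i a) (Subsingleton.elim _ _)

theorem ap_appTop' {A B C : Scheme.{u}} (f : A ⟶ B) (g : B ⟶ C) {U : C.Opens} (h : ⊤ ≤ g ⁻¹ᵁ U) (c : Γ(C, U)) :
    f.appTop (ap g h c) = ap (f ≫ g) (fun w _ => h (Opens.mem_top (f w))) c :=
  (appTop_eq f _).trans (ap_comp f g h _ c)

theorem fibreCoord (l : D.ι) {W : X.Opens} (hW : IsAffineOpen W) (hWl : W ≤ P.O l) :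
    Function.Bijective (Polynomial.eval₂RingHom (P.π.app W).hom
      (rr (P.π.preimage_mono hWl) (rr le_top (P.f l) : Γ(P.V, P.π ⁻¹ᵁ P.O l)))) := by
  obtain ⟨e, he₁, he₂⟩ := P.exists_test l hW hWl
  rw [rr_rr]
  set y : Γ(P.V, P.π ⁻¹ᵁ W) := rr le_top (P.f l)
  let R : CommRingCat.{u} := CommRingCat.of (Polynomial Γ(X, W))
  let ev : R ⟶ Γ(P.V, P.π ⁻¹ᵁ W) := CommRingCat.ofHom (Polynomial.eval₂RingHom (P.π.app W).hom y)
  have hle : (⊤ : (Spec R).Opens) ≤ e ⁻¹ᵁ (P.π ⁻¹ᵁ W) := by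
    intro w _
    show (e ≫ P.π) w ∈ W
    rw [he₁]
    have : hW.fromSpec (Spec.map (CommRingCat.ofHom Polynomial.C) w) ∈ Set.range hW.fromSpec := ⟨_, rfl⟩
    rw [hW.range_fromSpec] at this
    exact this
  let ψ : Γ(P.V, P.π ⁻¹ᵁ W) ⟶ R := e.appLE (P.π ⁻¹ᵁ W) ⊤ hle ≫ (Scheme.ΓSpecIso R).hom
  have hψy : ψ y = Polynomial.X := by
    show (Scheme.ΓSpecIso R).hom (ap e hle (rr le_top (P.f l))) = _
    rw [ap_rr, ← rr_appTop e le_rfl, rr_self, he₂ l, P.g_self, rr, map_one, Polynomial.C_1, one_mul]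
    exact ConcreteCategory.congr_hom (Scheme.ΓSpecIso R).inv_hom_id _
  have hψC : P.π.app W ≫ ψ = CommRingCat.ofHom Polynomial.C := by
    refine CommRingCat.hom_ext (RingHom.ext fun c => ?_)
    show (Scheme.ΓSpecIso R).hom (ap e hle (P.π.app W c)) = _
    rw [app_eq, ap_comp, ap_congr he₁ _
      (show (⊤ : (Spec R).Opens) ≤ (Spec.map (CommRingCat.ofHom Polynomial.C) ≫ hW.fromSpec) ⁻¹ᵁ W from
        fun w _ => by show _ ∈ W; rw [← he₁]; exact hle trivial)]
    have h0 : (⊤ : (Spec Γ(X, W)).Opens) ≤ hW.fromSpec ⁻¹ᵁ W := hW.fromSpec_preimage_self.ge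
    rw [← ap_comp (Spec.map (CommRingCat.ofHom Polynomial.C)) hW.fromSpec h0 le_top,
      show ap hW.fromSpec h0 c = (Scheme.ΓSpecIso Γ(X, W)).inv c from by
        show hW.fromSpec.appLE _ _ _ c = _
        rw [Scheme.Hom.appLE, hW.fromSpec_app_self]
        simp only [Category.assoc, ← Functor.map_comp]
        rw [ConcreteCategory.comp_apply]
        exact rr_self le_rfl _, ← appTop_eq]
    exact (congrArg (Scheme.ΓSpecIso R).hom (ConcreteCategory.congr_hom (Scheme.ΓSpecIso_inv_naturality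
      (CommRingCat.ofHom (Polynomial.C : Γ(X, W) →+* _))) c).symm).trans
      (ConcreteCategory.congr_hom (Scheme.ΓSpecIso R).inv_hom_id _)
  have h₁ : ∀ p : R, ψ (ev p) = p := by
    suffices h : ψ.hom.comp ev.hom = RingHom.id _ from fun p => RingHom.congr_fun h p
    refine Polynomial.ringHom_ext (fun c => ?_) ?_
    · show ψ (Polynomial.eval₂ (P.π.app W).hom y (Polynomial.C c)) = Polynomial.C c
      rw [Polynomial.eval₂_C]
      exact ConcreteCategory.congr_hom hψC c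
    · show ψ (Polynomial.eval₂ (P.π.app W).hom y Polynomial.X) = Polynomial.X
      rw [Polynomial.eval₂_X, hψy]
  -- the inverse map on the affine preimage
  let U : P.V.Opens := P.π ⁻¹ᵁ W
  let ξ : (U : Scheme.{u}) ⟶ Spec R := (U : Scheme.{u}).toSpecΓ ≫ Spec.map (ev ≫ U.topIso.inv)
  have hξ : ∀ p : R, ξ.appTop ((Scheme.ΓSpecIso R).inv p) = U.topIso.inv (ev p) := by
    intro p
    have hh := ConcreteCategory.congr_hom (Scheme.ΓSpecIso_naturality (ev ≫ U.topIso.inv)) ((Scheme.ΓSpecIso R).inv p)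
    simp only [ξ, Scheme.Hom.comp_appTop, Scheme.toSpecΓ_appTop, CommRingCat.comp_apply] at hh ⊢
    rw [hh]
    exact congrArg (fun t => (ev ≫ U.topIso.inv) t)
      (ConcreteCategory.congr_hom (Scheme.ΓSpecIso R).inv_hom_id p)
  have htop : ∀ {V' : P.V.Opens} (hV : U ≤ V') (t : Γ(P.V, V')),
      U.topIso.inv (rr hV t) = ap U.ι (V := ⊤) (fun w _ => hV w.2) t := by
    intro V' hV t
    exact (topIso_inv_eq U _).trans (ap_rr U.ι _ hV t)
  have hξe : ξ ≫ e = U.ι := by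
    have hπ : (ξ ≫ e) ≫ P.π = U.ι ≫ P.π := by
      rw [Category.assoc, he₁]
      simp only [ξ, Spec.map_comp, Category.assoc]
      have := hW.toSpecΓ_fromSpec
      show (U : Scheme.{u}).toSpecΓ ≫ Spec.map U.topIso.inv ≫ Spec.map ev ≫
        Spec.map (CommRingCat.ofHom Polynomial.C) ≫ hW.fromSpec = _
      have hC : CommRingCat.ofHom Polynomial.C ≫ ev = P.π.app W := by
        ext c; exact Polynomial.eval₂_C _ _
      rw [← Spec.map_comp_assoc (CommRingCat.ofHom Polynomial.C) ev, hC, ← Spec.map_comp_assoc]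
      have hα : P.π.app W ≫ U.topIso.inv = W.topIso.inv ≫ (P.π ∣_ W).appTop := by
        ext c
        show U.topIso.inv (P.π.app W c) = (P.π ∣_ W).appTop (W.topIso.inv c)
        rw [← rr_self le_rfl (P.π.app W c), htop le_rfl, app_eq, ap_comp]
        rw [← rr_self le_rfl c]
        have hWtop : W.topIso.inv (rr le_rfl c) = ap W.ι (V := ⊤) (fun w _ => w.2) c := by
          rw [rr_self]; exact topIso_inv_eq W c
        rw [hWtop, rr_self, ap_appTop' (P.π ∣_ W) W.ι, ap_congr (morphismRestrict_ι P.π W).symm]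
      rw [hα, Spec.map_comp, Category.assoc, ← Scheme.toSpecΓ_naturality_assoc]
      show (P.π ∣_ W) ≫ W.toSpecΓ ≫ hW.fromSpec = _
      rw [this, morphismRestrict_ι]
    refine P.hom_ext _ _ hπ ?_
    haveI := P.mono
    rw [← cancel_mono P.z]
    refine AffineSpace.hom_ext ?_ fun s => ?_
    · simp only [Category.assoc, P.comm]
      exact (Category.assoc _ _ _).symm.trans ((congrArg (· ≫ φ) ((Category.assoc _ _ _).symm.trans hπ)).trans
        (Category.assoc _ _ _))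
    · rw [Category.assoc, Category.assoc, Category.assoc, Scheme.Hom.comp_appTop, Scheme.Hom.comp_appTop,
        Scheme.Hom.comp_appTop, CommRingCat.comp_apply, CommRingCat.comp_apply, CommRingCat.comp_apply]
      show ξ.appTop (e.appTop (P.f s)) = U.ι.appTop (P.f s)
      rw [he₂ s, hξ]
      show U.topIso.inv (Polynomial.eval₂ (P.π.app W).hom y _) = _
      rw [Polynomial.eval₂_mul, Polynomial.eval₂_C, Polynomial.eval₂_X, appTop_eq]
      have hrel := P.f_rel l s (V' := U) (P.π.preimage_mono hWl)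
      rw [show (P.π.app W).hom (rr hWl (P.g l s)) = ap P.π (P.π.preimage_mono hWl) (P.g l s) from
        (app_eq P.π (rr hWl (P.g l s))).trans (ap_rr P.π _ hWl _), ← hrel, htop le_top]
  have h₂ : ∀ t, ev (ψ t) = t := by
    intro t
    apply U.topIso.commRingCatIsoToRingEquiv.symm.injective
    show U.topIso.inv (ev (ψ t)) = U.topIso.inv t
    rw [← hξ, ← rr_self le_rfl t, htop le_rfl, rr_self,
      show (Scheme.ΓSpecIso R).inv (ψ t) = ap e hle t from
        ConcreteCategory.congr_hom (Scheme.ΓSpecIso R).hom_inv_id _,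
      appTop_eq, ap_comp]
    exact ap_congr hξe _ _ t
  exact ⟨fun p p' h => (h₁ p).symm.trans ((congrArg ψ h).trans (h₁ p')), fun t => ⟨ψ t, h₂ t⟩⟩

theorem nonvanishing_eq (m : D.ι) :
    P.π.base '' (P.V.basicOpen (P.f m) : Set P.V) = (P.O m : Set X) := by
  refine Set.Subset.antisymm ?_ ?_
  · rintro _ ⟨v, hv, rfl⟩
    obtain ⟨l, hl⟩ := Opens.mem_iSup.1 (D.cover.ge (Opens.mem_top (φ (P.π v))) : φ (P.π v) ∈ ⨆ l, D.U l)
    have h1 : v ∈ P.V.basicOpen (rr (le_top : P.π ⁻¹ᵁ P.O l ≤ ⊤) (P.f m)) := by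
      rw [Scheme.basicOpen_res]; exact ⟨hl, hv⟩
    rw [P.f_rel l m le_rfl, Scheme.basicOpen_mul] at h1
    have h2 : v ∈ P.π ⁻¹ᵁ (φ ⁻¹ᵁ Y.basicOpen (D.h l m)) := by
      have h3 := h1.1
      rw [← app_eq, ← Scheme.preimage_basicOpen] at h3
      rw [Scheme.preimage_basicOpen]
      exact h3
    exact D.basic l m h2
  · intro x hx
    obtain ⟨_, ⟨W, hW, rfl⟩, hxW, hWm⟩ := X.isBasis_affineOpens.exists_subset_of_mem_open hx (P.O m).2
    obtain ⟨e, he₁, he₂⟩ := P.exists_test m hW hWm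
    let σ : Spec Γ(X, W) ⟶ P.V := Spec.map (CommRingCat.ofHom (Polynomial.evalRingHom 1)) ≫ e
    have hσ : σ ≫ P.π = hW.fromSpec := by
      rw [Category.assoc, he₁, ← Spec.map_comp_assoc]
      have : CommRingCat.ofHom Polynomial.C ≫ CommRingCat.ofHom (Polynomial.evalRingHom (1 : Γ(X, W))) = 𝟙 _ := by
        exact CommRingCat.hom_ext (RingHom.ext fun c => Polynomial.eval_C)
      rw [this, Spec.map_id, Category.id_comp]
    obtain ⟨w, hw⟩ : x ∈ Set.range hW.fromSpec := by rw [hW.range_fromSpec]; exact hxW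
    refine ⟨σ w, ?_, ?_⟩
    · show w ∈ σ ⁻¹ᵁ P.V.basicOpen (P.f m)
      rw [Scheme.preimage_basicOpen]
      have : σ.app ⊤ (P.f m) = 1 := by
        show σ.appTop (P.f m) = 1
        rw [Scheme.Hom.comp_appTop, CommRingCat.comp_apply, he₂ m, P.g_self, rr, map_one, Polynomial.C_1, one_mul]
        refine (ConcreteCategory.congr_hom (Scheme.ΓSpecIso_inv_naturality
          (CommRingCat.ofHom (Polynomial.evalRingHom (1 : Γ(X, W))))) _).symm.trans ?_
        show (Scheme.ΓSpecIso Γ(X, W)).inv (Polynomial.eval 1 Polynomial.X) = 1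
        rw [Polynomial.eval_X, map_one]
      rw [this]
      exact Scheme.basicOpen_of_isUnit _ isUnit_one ▸ trivial
    · show (σ ≫ P.π) w = x
      rw [hσ]; exact hw

end Total

end GrothLib.LinTot3
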